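import Cfsg.Agent.U6.Defs
import Cfsg.Agent.T3.Fr2d

/-! Project U6: the commutator form on `Q`, hyperbolic pairs and adapted bases
(port of `T3/Fr2a`, `Fr2b`, `Fr2d` from `F0` to `G0`). -/

set_option autoImplicit false

namespace Cfsg.Agent.U6.Fa

open Subgroup H49 MC3 T3 T3.Fr2

variable {G : Type*} [Group G]

section

variable {z : G} {Q : Subgroup G}

theorem z3' (h : G0 z Q) : z ^ 3 = 1 := h.exp z h.zQ

theorem ZQ (h : G0 z Q) : zpowers z ≤ Q := zpowers_le.2 h.zQ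

theorem cQ (h : G0 z Q) : 𝒞[z] ≤ 𝒩(Q) :=
  le_trans (by rw [← cent_zpowers]; exact cent_le_norm _) h.nQ

theorem conjQ (h : G0 z Q) {g q : G} (hg : g ∈ 𝒞[z]) (hq : q ∈ Q) : g * q * g⁻¹ ∈ Q :=
  conj_mem_of_norm (cQ h) hg hq

theorem Z_sq (h : G0 z Q) {c : G} (hc : c ∈ zpowers z) (e : c * c = 1) : c = 1 := by
  have := h.exp c (ZQ h hc)
  rwa [pow_succ, pow_two, e, one_mul] at this

theorem bt_spec (h : G0 z Q) {u w : G} (hu : u ∈ Q) (hw : w ∈ Q) :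
    zp z (bt z u w) = u * w * u⁻¹ * w⁻¹ := zp_lg h.z3 (h.comm u hu w hw)

theorem bt_eq (h : G0 z Q) {u w : G} (hu : u ∈ Q) (hw : w ∈ Q) {i : ZMod 3}
    (e : u * w * u⁻¹ * w⁻¹ = zp z i) : bt z u w = i :=
  zp_inj h.z3 ((bt_spec h hu hw).trans e)

theorem bt_zero (h : G0 z Q) {u w : G} (hu : u ∈ Q) (hw : w ∈ Q) :
    bt z u w = 0 ↔ u * w = w * u := by
  constructor
  · intro e
    have := bt_spec h hu hw
    rw [e, zp_zero, eq_comm, mul_inv_eq_one, mul_inv_eq_iff_eq_mul] at this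
    exact this
  · intro e
    exact bt_eq h hu hw (by rw [e, zp_zero]; group)

theorem bt_self (h : G0 z Q) {u : G} (hu : u ∈ Q) : bt z u u = 0 := (bt_zero h hu hu).2 rfl

theorem bt_mul_right (h : G0 z Q) {u w w' : G} (hu : u ∈ Q) (hw : w ∈ Q) (hw' : w' ∈ Q) :
    bt z u (w * w') = bt z u w + bt z u w' := by
  refine bt_eq h hu (mul_mem hw hw') ?_
  rw [zp_add (z3' h), bt_spec h hu hw, bt_spec h hu hw',
    ← Z_conj (h.Qc hw) (h.comm u hu w' hw')]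
  group

theorem bt_swap (h : G0 z Q) {u w : G} (hu : u ∈ Q) (hw : w ∈ Q) : bt z u w = -bt z w u := by
  rw [eq_neg_iff_add_eq_zero]
  apply zp_inj h.z3
  rw [zp_add (z3' h), bt_spec h hu hw, bt_spec h hw hu, zp_zero]
  group

theorem bt_mul_left (h : G0 z Q) {u u' w : G} (hu : u ∈ Q) (hu' : u' ∈ Q) (hw : w ∈ Q) :
    bt z (u * u') w = bt z u w + bt z u' w := by
  rw [bt_swap h (mul_mem hu hu') hw, bt_mul_right h hw hu hu', bt_swap h hu hw, bt_swap h hu' hw]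
  ring

theorem bt_Z_right (h : G0 z Q) {u c : G} (hu : u ∈ Q) (hc : c ∈ zpowers z) : bt z u c = 0 :=
  (bt_zero h hu (ZQ h hc)).2 (Z_comm (h.Qc hu) hc).symm

theorem bt_Z_left (h : G0 z Q) {u c : G} (hu : u ∈ Q) (hc : c ∈ zpowers z) : bt z c u = 0 :=
  (bt_zero h (ZQ h hc) hu).2 (Z_comm (h.Qc hu) hc)

theorem bt_inv_right (h : G0 z Q) {u w : G} (hu : u ∈ Q) (hw : w ∈ Q) :
    bt z u w⁻¹ = -bt z u w := by
  have := bt_mul_right h hu hw (inv_mem hw)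
  rw [mul_inv_cancel, bt_Z_right h hu (one_mem _)] at this
  linear_combination -this

theorem bt_inv_left (h : G0 z Q) {u w : G} (hu : u ∈ Q) (hw : w ∈ Q) :
    bt z u⁻¹ w = -bt z u w := by
  rw [bt_swap h (inv_mem hu) hw, bt_inv_right h hw hu, bt_swap h hu hw]

theorem bt_pow_right (h : G0 z Q) {u w : G} (hu : u ∈ Q) (hw : w ∈ Q) (n : ℕ) :
    bt z u (w ^ n) = n * bt z u w := by
  induction n with
  | zero => rw [pow_zero, bt_Z_right h hu (one_mem _)]; simp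
  | succ n ih => rw [pow_succ, bt_mul_right h hu (pow_mem hw n) hw, ih]; push_cast; ring

theorem bt_zp_right (h : G0 z Q) {u w : G} (hu : u ∈ Q) (hw : w ∈ Q) (i : ZMod 3) :
    bt z u (zp w i) = i * bt z u w := by
  rw [zp, bt_pow_right h hu hw, ZMod.natCast_zmod_val]

theorem bt_zp_left (h : G0 z Q) {u w : G} (hu : u ∈ Q) (hw : w ∈ Q) (i : ZMod 3) :
    bt z (zp u i) w = i * bt z u w := by
  rw [bt_swap h (zp_mem hu i) hw, bt_zp_right h hw hu, bt_swap h hu hw]; ring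

theorem bt_conj (h : G0 z Q) {g u w : G} (hg : g ∈ 𝒞[z]) (hu : u ∈ Q) (hw : w ∈ Q) :
    bt z (g * u * g⁻¹) (g * w * g⁻¹) = bt z u w := by
  unfold bt
  rw [← Z_conj hg (h.comm u hu w hw)]
  congr 1
  group

theorem bt_conj' (h : G0 z Q) {g u w : G} (hg : g ∈ 𝒞[z]) (hu : u ∈ Q) (hw : w ∈ Q) :
    bt z u (g * w * g⁻¹) = bt z (g⁻¹ * u * g⁻¹⁻¹) w := by
  rw [← bt_conj h hg (conjQ h (inv_mem hg) hu) hw]
  congr 1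
  group

theorem mem_Z_of_bt (h : G0 z Q) {w : G} (hw : w ∈ Q) (e : ∀ u ∈ Q, bt z u w = 0) :
    w ∈ zpowers z :=
  h.cen w hw (fun u hu => ((bt_zero h hu hw).1 (e u hu)).symm)

theorem div_mem_Z (h : G0 z Q) {w w' : G} (hw : w ∈ Q) (hw' : w' ∈ Q)
    (e : ∀ u ∈ Q, bt z u w = bt z u w') : w * w'⁻¹ ∈ zpowers z :=
  mem_Z_of_bt h (mul_mem hw (inv_mem hw')) (fun u hu => by
    rw [bt_mul_right h hu hw (inv_mem hw'), bt_inv_right h hu hw', e u hu, add_neg_cancel])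

theorem bt_congr_right (h : G0 z Q) {u w w' : G} (hu : u ∈ Q) (hw' : w' ∈ Q)
    (e : w * w'⁻¹ ∈ zpowers z) : bt z u w = bt z u w' := by
  rw [show w = w * w'⁻¹ * w' by group, bt_mul_right h hu (ZQ h e) hw', bt_Z_right h hu e, zero_add]

theorem bt_congr_left (h : G0 z Q) {u w w' : G} (hu : u ∈ Q) (hw' : w' ∈ Q)
    (e : w * w'⁻¹ ∈ zpowers z) : bt z w u = bt z w' u := by
  rw [show w = w * w'⁻¹ * w' by group, bt_mul_left h (ZQ h e) hw' hu, bt_Z_left h hu e, zero_add]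

theorem conj_eq_of_bt (h : G0 z Q) {a b : G} (ha : a ∈ Q) (hb : b ∈ Q) (e : bt z b a = 1) :
    b * a * b⁻¹ = a * z := by
  have := bt_spec h hb ha
  rw [e, zp_one] at this
  rw [mem_cent1.1 (h.Qc ha), this]; group

/-- An element fixed modulo `Z` and inverted by an involution commuting with `g` is fixed. -/
theorem fix_of_inv (h : G0 z Q) {g ρ w : G} (hρ : ρ ∈ 𝒞[z]) (hc : g * ρ = ρ * g) (hw : w ∈ Q)
    (hi : ρ * w * ρ⁻¹ = w⁻¹) (e : g * w * g⁻¹ * w⁻¹ ∈ zpowers z) : g * w * g⁻¹ = w := by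
  set c := g * w * g⁻¹ * w⁻¹ with hcd
  have e1 : g * w * g⁻¹ = c * w := by rw [hcd]; group
  have e2 : ρ * (g * w * g⁻¹) * ρ⁻¹ = (g * w * g⁻¹)⁻¹ := by
    calc ρ * (g * w * g⁻¹) * ρ⁻¹ = (ρ * g) * w * (ρ * g)⁻¹ := by group
      _ = g * (ρ * w * ρ⁻¹) * g⁻¹ := by rw [← hc]; group
      _ = _ := by rw [hi]; group
  have e3 : c * c = 1 := by
    rw [e1, show ρ * (c * w) * ρ⁻¹ = ρ * c * ρ⁻¹ * (ρ * w * ρ⁻¹) by group, Z_conj hρ e, hi,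
      Z_comm (inv_mem (h.Qc hw)) e, mul_inv_rev] at e2
    rw [mul_eq_one_iff_eq_inv]
    exact mul_left_cancel e2
  rw [e1, Z_sq h e e3, one_mul]

/-- An element fixed modulo `Z` by an involution is fixed. -/
theorem fix_of_invol (h : G0 z Q) {ρ w : G} (hρ : ρ ∈ 𝒞[z]) (h2 : ρ * ρ = 1)
    (e : ρ * w * ρ⁻¹ * w⁻¹ ∈ zpowers z) : ρ * w * ρ⁻¹ = w := by
  set c := ρ * w * ρ⁻¹ * w⁻¹ with hcd
  have e1 : ρ * w * ρ⁻¹ = c * w := by rw [hcd]; group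
  have e2 : w = c * c * w := by
    calc w = (ρ * ρ) * w * (ρ * ρ)⁻¹ := by rw [h2]; group
      _ = ρ * (ρ * w * ρ⁻¹) * ρ⁻¹ := by group
      _ = ρ * (c * w) * ρ⁻¹ := by rw [e1]
      _ = (ρ * c * ρ⁻¹) * (ρ * w * ρ⁻¹) := by group
      _ = c * (c * w) := by rw [Z_conj hρ e, e1]
      _ = _ := (mul_assoc _ _ _).symm
  rw [e1, Z_sq h e (mul_eq_right.1 e2.symm), one_mul]

variable {a b : G}

theorem vec_mul (h : G0 z Q) (ha : a ∈ Q) (hb : b ∈ Q) {u w : G} (hu : u ∈ Q) (hw : w ∈ Q) :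
    vec z a b (u * w) = vec z a b u + vec z a b w :=
  Prod.ext (bt_mul_right h hb hu hw) (bt_mul_left h hu hw ha)

theorem vec_inv (h : G0 z Q) (ha : a ∈ Q) (hb : b ∈ Q) {u : G} (hu : u ∈ Q) :
    vec z a b u⁻¹ = -vec z a b u :=
  Prod.ext (bt_inv_right h hb hu) (bt_inv_left h hu ha)

theorem vec_congr (h : G0 z Q) (ha : a ∈ Q) (hb : b ∈ Q) {w w' : G} (hw' : w' ∈ Q)
    (e : w * w'⁻¹ ∈ zpowers z) : vec z a b w = vec z a b w' :=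
  Prod.ext (bt_congr_right h hb hw' e) (bt_congr_left h ha hw' e)

end

/-- `a`, `b` is a hyperbolic pair spanning `W` modulo the radical. -/
structure HP (z : G) (Q W : Subgroup G) (a b : G) : Prop where
  f0 : G0 z Q
  WQ : W ≤ Q
  aW : a ∈ W
  bW : b ∈ W
  ba : bt z b a = 1
  ex : ∀ u ∈ W, ∀ w ∈ W, bt z u w = bt z b w * bt z u a + bt z w a * bt z u b

namespace HP

variable {z a b : G} {Q W : Subgroup G}

theorem aQ (h : HP z Q W a b) : a ∈ Q := h.WQ h.aW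
theorem bQ (h : HP z Q W a b) : b ∈ Q := h.WQ h.bW

theorem vec_a (h : HP z Q W a b) : vec z a b a = (1, 0) := Prod.ext h.ba (bt_self h.f0 h.aQ)
theorem vec_b (h : HP z Q W a b) : vec z a b b = (0, 1) := Prod.ext (bt_self h.f0 h.bQ) h.ba

theorem form (h : HP z Q W a b) {u w : G} (hu : u ∈ W) (hw : w ∈ W) :
    bt z u w = (vec z a b w).1 * (vec z a b u).2 - (vec z a b w).2 * (vec z a b u).1 := by
  rw [h.ex u hu w hw, bt_swap h.f0 (h.WQ hu) h.bQ]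
  simp only [vec]
  ring

theorem mat_val (h : HP z Q W a b) {g : G} (hg : g ∈ 𝒞[z] ⊓ 𝒩(W)) :
    (mat z a b g).1 = ⟨(vec z a b (g * a * g⁻¹)).1, (vec z a b (g * b * g⁻¹)).1,
      (vec z a b (g * a * g⁻¹)).2, (vec z a b (g * b * g⁻¹)).2⟩ := by
  have h1 := h.form (conj_mem_of_norm le_rfl hg.2 h.bW) (conj_mem_of_norm le_rfl hg.2 h.aW)
  rw [bt_conj h.f0 hg.1 h.bQ h.aQ, h.ba] at h1
  exact S2.mk2_val _ _ (by linear_combination -h1)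

theorem vec_conj (h : HP z Q W a b) {g w : G} (hg : g ∈ 𝒞[z] ⊓ 𝒩(W)) (hw : w ∈ W) :
    vec z a b (g * w * g⁻¹) = (mat z a b g).ap (vec z a b w) := by
  have f := h.f0
  have hw' := h.WQ hw
  have ha := conj_mem_of_norm le_rfl (inv_mem hg.2) h.aW
  have hb := conj_mem_of_norm le_rfl (inv_mem hg.2) h.bW
  simp only [S2.ap, h.mat_val hg, vec]
  refine Prod.ext ?_ ?_
  · simp only
    rw [bt_conj' f hg.1 h.bQ hw', bt_conj' f hg.1 h.bQ h.aQ, bt_conj' f hg.1 h.bQ h.bQ,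
      h.ex _ hb w hw]
    ring
  · simp only
    rw [bt_swap f (conjQ f hg.1 hw') h.aQ, bt_swap f (conjQ f hg.1 h.aQ) h.aQ,
      bt_swap f (conjQ f hg.1 h.bQ) h.aQ, bt_conj' f hg.1 h.aQ hw', bt_conj' f hg.1 h.aQ h.aQ,
      bt_conj' f hg.1 h.aQ h.bQ, h.ex _ ha w hw]
    ring

theorem ph (h : HP z Q W a b) : PH (𝒞[z] ⊓ 𝒩(W)) (mat z a b) := ⟨fun g hg k hk => by
  apply Subtype.ext
  have e : ∀ w, g * k * w * (g * k)⁻¹ = g * (k * w * k⁻¹) * g⁻¹ := fun w => by group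
  rw [h.mat_val (mul_mem hg hk), S2.mul_val, h.mat_val hk, e, e,
    h.vec_conj hg (conj_mem_of_norm le_rfl hk.2 h.aW),
    h.vec_conj hg (conj_mem_of_norm le_rfl hk.2 h.bW)]
  rfl⟩

theorem mat_eq (h : HP z Q W a b) {g : G} (hg : g ∈ 𝒞[z] ⊓ 𝒩(W)) {A : S2}
    (h1 : vec z a b (g * a * g⁻¹) = (A.1.a, A.1.c)) (h2 : vec z a b (g * b * g⁻¹) = (A.1.b, A.1.d)) :
    mat z a b g = A := Subtype.ext (by rw [h.mat_val hg, h1, h2])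

theorem mat_one (h : HP z Q W a b) {g : G} (h1 : g * a * g⁻¹ * a⁻¹ ∈ zpowers z)
    (h2 : g * b * g⁻¹ * b⁻¹ ∈ zpowers z) : mat z a b g = 1 := by
  rw [mat, vec_congr h.f0 h.aQ h.bQ h.aQ h1, vec_congr h.f0 h.aQ h.bQ h.bQ h2, h.vec_a, h.vec_b]
  decide +kernel

theorem mat_Q (h : HP z Q W a b) {g : G} (hg : g ∈ Q) : mat z a b g = 1 :=
  h.mat_one (h.f0.comm g hg a h.aQ) (h.f0.comm g hg b h.bQ)

theorem mat_cent (h : HP z Q W a b) {g : G} (h1 : g ∈ 𝒞[a]) (h2 : g ∈ 𝒞[b]) : mat z a b g = 1 :=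
  h.mat_one (by rw [mem_cent1.1 h1]; simp) (by rw [mem_cent1.1 h2]; simp)

theorem mat_neg (h : HP z Q W a b) {g : G} (h1 : g * a * g⁻¹ * a ∈ zpowers z)
    (h2 : g * b * g⁻¹ * b ∈ zpowers z) : mat z a b g = S2.nI := by
  rw [mat, vec_congr h.f0 h.aQ h.bQ (w := g * a * g⁻¹) (inv_mem h.aQ) (by rwa [inv_inv]),
    vec_congr h.f0 h.aQ h.bQ (w := g * b * g⁻¹) (inv_mem h.bQ) (by rwa [inv_inv]),
    vec_inv h.f0 h.aQ h.bQ h.aQ, vec_inv h.f0 h.aQ h.bQ h.bQ, h.vec_a, h.vec_b]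
  decide +kernel

theorem vec_zp (h : HP z Q W a b) (i j : ZMod 3) : vec z a b (zp a i * zp b j) = (i, j) := by
  have f := h.f0
  rw [vec_mul f h.aQ h.bQ (zp_mem h.aQ i) (zp_mem h.bQ j)]
  simp only [vec, bt_zp_right f h.bQ h.aQ, bt_zp_right f h.bQ h.bQ, bt_zp_left f h.aQ h.aQ,
    bt_zp_left f h.bQ h.aQ, h.ba, bt_self f h.aQ, bt_self f h.bQ]
  simp

/-- Every vector is represented by an element inverted by an involution acting as `-1`. -/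
theorem exists_inv (h : HP z Q W a b) {ρ : G} (hρ : ρ ∈ 𝒞[z] ⊓ 𝒩(W)) (h2 : ρ * ρ = 1)
    (hm : mat z a b ρ = S2.nI) (v : ZMod 3 × ZMod 3) :
    ∃ w ∈ W, ρ * w * ρ⁻¹ = w⁻¹ ∧ vec z a b w = v := by
  have hw : zp a (-v.1) * zp b (-v.2) ∈ W := mul_mem (zp_mem h.aW _) (zp_mem h.bW _)
  have hv := h.vec_zp (-v.1) (-v.2)
  generalize zp a (-v.1) * zp b (-v.2) = w at hw hv
  have hw' := conj_mem_of_norm le_rfl hρ.2 (inv_mem hw)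
  refine ⟨w * (ρ * w⁻¹ * ρ⁻¹), mul_mem hw hw', ?_, ?_⟩
  · calc ρ * (w * (ρ * w⁻¹ * ρ⁻¹)) * ρ⁻¹ = ρ * w * ρ⁻¹ * ((ρ * ρ) * w⁻¹ * (ρ * ρ)⁻¹) := by group
      _ = _ := by rw [h2]; group
  · rw [vec_mul h.f0 h.aQ h.bQ (h.WQ hw) (h.WQ hw'), h.vec_conj hρ (inv_mem hw), hm, S2.ap_nI,
      vec_inv h.f0 h.aQ h.bQ (h.WQ hw), hv]
    exact (by decide : ∀ v : ZMod 3 × ZMod 3, (-v.1, -v.2) + - -(-v.1, -v.2) = v) v

end HP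

section

variable {z : G} {Q : Subgroup G} {g k w : G} {e e' : ZMod 3}

theorem sc_mul (h : G0 z Q) (hg : g ∈ 𝒞[z]) (hk : k ∈ 𝒞[z]) (hw : w ∈ Q) (h1 : Sc z Q g w e)
    (h2 : Sc z Q k w e') : Sc z Q (g * k) w (e * e') := fun u hu => by
  rw [show g * k * w * (g * k)⁻¹ = g * (k * w * k⁻¹) * g⁻¹ by group,
    bt_conj' h hg hu (conjQ h hk hw), h2 _ (conjQ h (inv_mem hg) hu), ← bt_conj' h hg hu hw, h1 u hu]
  ring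

theorem sc_conj (h : G0 z Q) (hg : g ∈ 𝒞[z]) (hk : k ∈ 𝒞[z]) (hw : w ∈ Q) (h2 : Sc z Q k w e) :
    Sc z Q (g * k * g⁻¹) (g * w * g⁻¹) e := fun u hu => by
  rw [show g * k * g⁻¹ * (g * w * g⁻¹) * (g * k * g⁻¹)⁻¹ = g * (k * w * k⁻¹) * g⁻¹ by group,
    bt_conj' h hg hu (conjQ h hk hw), h2 _ (conjQ h (inv_mem hg) hu), ← bt_conj' h hg hu hw]

theorem sc_one (h : G0 z Q) (hg : g ∈ 𝒞[z]) (hw : w ∈ Q) :
    Sc z Q g w 1 ↔ g * w * g⁻¹ * w⁻¹ ∈ zpowers z :=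
  ⟨fun h1 => div_mem_Z h (conjQ h hg hw) hw (fun u hu => by rw [h1 u hu, one_mul]),
    fun h1 u hu => by rw [one_mul]; exact bt_congr_right h hu hw h1⟩

theorem sc_neg (h : G0 z Q) (hg : g ∈ 𝒞[z]) (hw : w ∈ Q) :
    Sc z Q g w (-1) ↔ g * w * g⁻¹ * w ∈ zpowers z :=
  ⟨fun h1 => by
    simpa using div_mem_Z h (conjQ h hg hw) (inv_mem hw) (fun u hu => by
      rw [h1 u hu, bt_inv_right h hu hw, neg_one_mul]),
    fun h1 u hu => by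
      rw [neg_one_mul, ← bt_inv_right h hu hw]
      exact bt_congr_right h hu (inv_mem hw) (by rwa [inv_inv])⟩

theorem sc_Q (h : G0 z Q) (hg : g ∈ Q) (hw : w ∈ Q) : Sc z Q g w 1 :=
  (sc_one h (h.Qc hg) hw).2 (h.comm g hg w hw)

theorem sc_of_inv (h : G0 z Q) (hw : w ∈ Q) (e1 : g * w * g⁻¹ = w⁻¹) : Sc z Q g w (-1) :=
  fun u hu => by rw [e1, bt_inv_right h hu hw, neg_one_mul]

theorem mem_Q_of_sc (h : G0 z Q) (hg : g ∈ 𝒞[z]) (h1 : ∀ q ∈ Q, Sc z Q g q 1) : g ∈ Q :=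
  h.faith g hg (fun q hq => (sc_one h hg hq).1 (h1 q hq))

theorem orth (h : G0 z Q) (hg : g ∈ 𝒞[z]) {p : G} (hp : p ∈ Q) (hw : w ∈ Q)
    (h1 : g * p * g⁻¹ = p) (h2 : Sc z Q g w (-1)) : bt z p w = 0 := by
  have := bt_conj h hg hp hw
  rw [h1, h2 p hp] at this
  revert this
  generalize bt z p w = i
  revert i; decide

theorem odd_Q (h : G0 z Q) (hg : g ∈ Q) : Odd (orderOf g) :=
  odd_orderOf_of_pow (k := 1) (by simpa using h.exp g hg)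

/-- lifting centralisers of involutions modulo `Q` -/
theorem lift_Q (h : G0 z Q) {r : G} (hr : r * r = 1) (e1 : g * r * g⁻¹ * r⁻¹ ∈ Q) :
    ∃ j ∈ Q, j ∈ zpowers (g * r * g⁻¹ * r⁻¹) ∧ j * g ∈ 𝒞[r] := by
  obtain ⟨j, hj, e⟩ := exists_cent_lift hr (odd_Q h e1)
  exact ⟨j, zpowers_le.2 e1 hj, hj, e⟩

end

/-- A hyperbolic basis of `Q/Z` adapted to the involution `r`. -/
structure Bs (z r a1 b1 a2 b2 : G) (Q : Subgroup G) : Prop where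
  f0 : G0 z Q
  rz : r ∈ 𝒞[z]
  rr : r * r = 1
  a1Q : a1 ∈ Q
  b1Q : b1 ∈ Q
  a2Q : a2 ∈ Q
  b2Q : b2 ∈ Q
  ba1 : bt z b1 a1 = 1
  ba2 : bt z b2 a2 = 1
  ra1 : r * a1 * r⁻¹ = a1⁻¹
  rb1 : r * b1 * r⁻¹ = b1⁻¹
  ra2 : r * a2 * r⁻¹ = a2
  rb2 : r * b2 * r⁻¹ = b2

theorem exists_bs {z t r : G} {Q : Subgroup G} (f : G0 z Q) (ht : t ∈ 𝒞[z])
    (tneg : ∀ q ∈ Q, t * q * t⁻¹ * q ∈ zpowers z) (rz : r ∈ 𝒞[z]) (rr : r * r = 1)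
    (h1 : r ∉ Q) (h2 : r * t ∉ Q) : ∃ a1 b1 a2 b2, Bs z r a1 b1 a2 b2 Q := by
  have pQ : ∀ q ∈ Q, q * (r * q * r⁻¹) ∈ Q := fun q hq => mul_mem hq (conjQ f rz hq)
  have nQ : ∀ q ∈ Q, q * (r * q⁻¹ * r⁻¹) ∈ Q := fun q hq => mul_mem hq (conjQ f rz (inv_mem hq))
  have hp : ∀ q ∈ Q, r * (q * (r * q * r⁻¹)) * r⁻¹ = q * (r * q * r⁻¹) := fun q hq => by
    apply fix_of_invol f rz rr
    have := f.comm _ (conjQ f rz hq) _ hq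
    convert this using 1
    calc _ = r * q * r⁻¹ * ((r * r) * q * (r * r)⁻¹) * (r * q * r⁻¹)⁻¹ * q⁻¹ := by group
      _ = _ := by rw [rr]; group
  have hn : ∀ q : G, r * (q * (r * q⁻¹ * r⁻¹)) * r⁻¹ = (q * (r * q⁻¹ * r⁻¹))⁻¹ := fun q => by
    calc _ = r * q * r⁻¹ * ((r * r) * q⁻¹ * (r * r)⁻¹) := by group
      _ = _ := by rw [rr]; group
  have hsum : ∀ u ∈ Q, ∀ q ∈ Q, bt z u (q * (r * q * r⁻¹)) + bt z u (q * (r * q⁻¹ * r⁻¹)) =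
      -bt z u q := fun u hu q hq => by
    rw [bt_mul_right f hu hq (conjQ f rz hq), bt_mul_right f hu hq (conjQ f rz (inv_mem hq)),
      show r * q⁻¹ * r⁻¹ = (r * q * r⁻¹)⁻¹ by group, bt_inv_right f hu (conjQ f rz hq)]
    generalize bt z u q = i
    generalize bt z u (r * q * r⁻¹) = j
    revert i j; decide
  have sgn : ∀ a ∈ Q, ∀ b ∈ Q, bt z a b ≠ 0 → bt z b a = 1 ∨ bt z b⁻¹ a = 1 := fun a ha b hb e => by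
    rw [bt_inv_left f hb ha, bt_swap f hb ha]
    revert e
    generalize bt z a b = i
    revert i; decide
  obtain ⟨a1, a1Q, i1, b1, b1Q, i2, e1⟩ : ∃ a ∈ Q, r * a * r⁻¹ = a⁻¹ ∧ ∃ b ∈ Q,
      r * b * r⁻¹ = b⁻¹ ∧ bt z b a = 1 := by
    obtain ⟨q, hq, e⟩ : ∃ q ∈ Q, q * (r * q⁻¹ * r⁻¹) ∉ zpowers z := by
      by_contra hcon
      push Not at hcon
      exact h1 (f.faith r rz (fun q hq => by simpa [mul_assoc] using inv_mem (hcon q hq)))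
    obtain ⟨u, hu, e'⟩ : ∃ u ∈ Q, bt z u (q * (r * q⁻¹ * r⁻¹)) ≠ 0 := by
      by_contra hcon
      push Not at hcon
      exact e (mem_Z_of_bt f (nQ q hq) hcon)
    have h3 := hsum _ (nQ q hq) u hu
    rw [bt_swap f (nQ q hq) (pQ u hu), orth f rz (pQ u hu) (nQ q hq) (hp u hu)
      (sc_of_inv f (nQ q hq) (hn q)), neg_zero, zero_add, bt_swap f (nQ q hq) hu, neg_neg] at h3
    rcases sgn _ (nQ q hq) _ (nQ u hu) (by rwa [h3]) with h4 | h4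
    · exact ⟨_, nQ q hq, hn q, _, nQ u hu, hn u, h4⟩
    · exact ⟨_, nQ q hq, hn q, _, inv_mem (nQ u hu), by rw [← conj_inv (b := r), hn u], h4⟩
  obtain ⟨a2, a2Q, i3, b2, b2Q, i4, e2⟩ : ∃ a ∈ Q, r * a * r⁻¹ = a ∧ ∃ b ∈ Q,
      r * b * r⁻¹ = b ∧ bt z b a = 1 := by
    obtain ⟨q, hq, e⟩ : ∃ q ∈ Q, q * (r * q * r⁻¹) ∉ zpowers z := by
      by_contra hcon
      push Not at hcon
      refine h2 (mem_Q_of_sc f (mul_mem rz ht) (fun q hq => ?_))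
      have h3 : Sc z Q r q (-1) := (sc_neg f rz hq).2 (by
        have := Z_conj (inv_mem (f.Qc hq)) (hcon q hq)
        rw [show q⁻¹ * (q * (r * q * r⁻¹)) * q⁻¹⁻¹ = r * q * r⁻¹ * q by group] at this
        rw [this]; exact hcon q hq)
      simpa using sc_mul f rz ht hq h3 ((sc_neg f ht hq).2 (tneg q hq))
    obtain ⟨u, hu, e'⟩ : ∃ u ∈ Q, bt z u (q * (r * q * r⁻¹)) ≠ 0 := by
      by_contra hcon
      push Not at hcon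
      exact e (mem_Z_of_bt f (pQ q hq) hcon)
    have h3 := hsum _ (pQ q hq) u hu
    rw [orth f rz (pQ q hq) (nQ u hu) (hp q hq) (sc_of_inv f (nQ u hu) (hn u)), add_zero,
      bt_swap f (pQ q hq) hu, neg_neg] at h3
    rcases sgn _ (pQ q hq) _ (pQ u hu) (by rwa [h3]) with h4 | h4
    · exact ⟨_, pQ q hq, hp q hq, _, pQ u hu, hp u hu, h4⟩
    · exact ⟨_, pQ q hq, hp q hq, _, inv_mem (pQ u hu), by rw [← conj_inv (b := r), hp u hu], h4⟩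
  exact ⟨a1, b1, a2, b2, f, rz, rr, a1Q, b1Q, a2Q, b2Q, e1, e2, i1, i2, i3, i4⟩

namespace Bs

variable {z r a1 b1 a2 b2 : G} {Q : Subgroup G}

theorem o1 (h : Bs z r a1 b1 a2 b2 Q) {p : G} (hp : p ∈ Q) (e : r * p * r⁻¹ = p) :
    bt z p a1 = 0 := orth h.f0 h.rz hp h.a1Q e (sc_of_inv h.f0 h.a1Q h.ra1)

theorem o2 (h : Bs z r a1 b1 a2 b2 Q) {p : G} (hp : p ∈ Q) (e : r * p * r⁻¹ = p) :
    bt z p b1 = 0 := orth h.f0 h.rz hp h.b1Q e (sc_of_inv h.f0 h.b1Q h.rb1)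

theorem bt_nf (h : Bs z r a1 b1 a2 b2 Q) {u : G} (hu : u ∈ Q) (i j k l m : ZMod 3) :
    bt z u (zp z i * zp a1 j * zp a2 k * zp b1 l * zp b2 m) =
      j * bt z u a1 + k * bt z u a2 + l * bt z u b1 + m * bt z u b2 := by
  have f := h.f0
  have m0 := zp_mem f.zQ i
  have m1 := zp_mem h.a1Q j
  have m2 := zp_mem h.a2Q k
  have m3 := zp_mem h.b1Q l
  have m4 := zp_mem h.b2Q m
  rw [bt_mul_right f hu (mul_mem (mul_mem (mul_mem m0 m1) m2) m3) m4,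
    bt_mul_right f hu (mul_mem (mul_mem m0 m1) m2) m3, bt_mul_right f hu (mul_mem m0 m1) m2,
    bt_mul_right f hu m0 m1, bt_Z_right f hu (zp_mem (mem_zpowers z) i), bt_zp_right f hu h.a1Q,
    bt_zp_right f hu h.a2Q, bt_zp_right f hu h.b1Q, bt_zp_right f hu h.b2Q, zero_add]

theorem coords (h : Bs z r a1 b1 a2 b2 Q) {w : G} {i j k l m : ZMod 3}
    (e : w = zp z i * zp a1 j * zp a2 k * zp b1 l * zp b2 m) :
    bt z b1 w = j ∧ bt z b2 w = k ∧ bt z a1 w = -l ∧ bt z a2 w = -m := by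
  have f := h.f0
  have e1 := h.o1 h.a2Q h.ra2
  have e2 := h.o1 h.b2Q h.rb2
  have e3 := h.o2 h.a2Q h.ra2
  have e4 := h.o2 h.b2Q h.rb2
  rw [e, h.bt_nf h.b1Q, h.bt_nf h.b2Q, h.bt_nf h.a1Q, h.bt_nf h.a2Q, bt_swap f h.b1Q h.a2Q,
    bt_swap f h.b1Q h.b2Q, bt_swap f h.a1Q h.a2Q, bt_swap f h.a1Q h.b2Q, bt_swap f h.a1Q h.b1Q,
    bt_swap f h.a2Q h.b2Q, e1, e2, e3, e4, h.ba1, h.ba2, bt_self f h.a1Q, bt_self f h.a2Q,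
    bt_self f h.b1Q, bt_self f h.b2Q]
  simp

variable [Finite G]

theorem nf (h : Bs z r a1 b1 a2 b2 Q) {q : G} (hq : q ∈ Q) :
    ∃ i j k l m : ZMod 3, q = zp z i * zp a1 j * zp a2 k * zp b1 l * zp b2 m := by
  have f := h.f0
  let φ : ZMod 3 × ZMod 3 × ZMod 3 × ZMod 3 × ZMod 3 → Q := fun v =>
    ⟨zp z v.1 * zp a1 v.2.1 * zp a2 v.2.2.1 * zp b1 v.2.2.2.1 * zp b2 v.2.2.2.2,
      mul_mem (mul_mem (mul_mem (mul_mem (zp_mem f.zQ _) (zp_mem h.a1Q _)) (zp_mem h.a2Q _))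
        (zp_mem h.b1Q _)) (zp_mem h.b2Q _)⟩
  have hφ : Function.Injective φ := by
    rintro ⟨i, j, k, l, m⟩ ⟨i', j', k', l', m'⟩ e
    have e1 : zp z i * zp a1 j * zp a2 k * zp b1 l * zp b2 m =
      zp z i' * zp a1 j' * zp a2 k' * zp b1 l' * zp b2 m' := congrArg Subtype.val e
    obtain ⟨c1, c2, c3, c4⟩ := h.coords e1
    obtain ⟨d1, d2, d3, d4⟩ := h.coords (rfl : zp z i * zp a1 j * zp a2 k * zp b1 l * zp b2 m = _)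
    obtain rfl := d1.symm.trans c1
    obtain rfl := d2.symm.trans c2
    obtain rfl := neg_injective (d3.symm.trans c3)
    obtain rfl := neg_injective (d4.symm.trans c4)
    simp only [mul_left_inj] at e1
    rw [zp_inj f.z3 e1]
  obtain ⟨⟨i, j, k, l, m⟩, e⟩ := ((Nat.bijective_iff_injective_and_card φ).2 ⟨hφ, by
    rw [f.card]; simp⟩).2 ⟨q, hq⟩
  exact ⟨i, j, k, l, m, (congrArg Subtype.val e).symm⟩

theorem ex4 (h : Bs z r a1 b1 a2 b2 Q) {u w : G} (hu : u ∈ Q) (hw : w ∈ Q) :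
    bt z u w = bt z b1 w * bt z u a1 + bt z w a1 * bt z u b1 +
      (bt z b2 w * bt z u a2 + bt z w a2 * bt z u b2) := by
  obtain ⟨i, j, k, l, m, e⟩ := h.nf hw
  obtain ⟨c1, c2, c3, c4⟩ := h.coords e
  rw [bt_swap h.f0 hw h.a1Q, bt_swap h.f0 hw h.a2Q, c1, c2, c3, c4, e, h.bt_nf hu]
  ring

theorem sc_all (h : Bs z r a1 b1 a2 b2 Q) {g : G} (hg : g ∈ 𝒞[z]) {e : ZMod 3}
    (h1 : Sc z Q g a1 e) (h2 : Sc z Q g b1 e) (h3 : Sc z Q g a2 e) (h4 : Sc z Q g b2 e) {q : G}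
    (hq : q ∈ Q) : Sc z Q g q e := fun u hu => by
  have f := h.f0
  rw [bt_conj' f hg hu hq, h.ex4 (conjQ f (inv_mem hg) hu) hq, ← bt_conj' f hg hu h.a1Q,
    ← bt_conj' f hg hu h.b1Q, ← bt_conj' f hg hu h.a2Q, ← bt_conj' f hg hu h.b2Q, h1 u hu, h2 u hu,
    h3 u hu, h4 u hu, h.ex4 hu hq]
  ring

theorem a2m (h : Bs z r a1 b1 a2 b2 Q) : a2 ∈ Q ⊓ 𝒞[r] :=
  ⟨h.a2Q, mem_cent1.2 (mul_inv_eq_iff_eq_mul.1 h.ra2).symm⟩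

theorem b2m (h : Bs z r a1 b1 a2 b2 Q) : b2 ∈ Q ⊓ 𝒞[r] :=
  ⟨h.b2Q, mem_cent1.2 (mul_inv_eq_iff_eq_mul.1 h.rb2).symm⟩

omit [Finite G] in
theorem fixr {p : G} (hp : p ∈ Q ⊓ 𝒞[r]) : r * p * r⁻¹ = p := by
  rw [← mem_cent1.1 hp.2, mul_inv_cancel_right]

omit [Finite G] in
theorem mem1 (h : Bs z r a1 b1 a2 b2 Q) {w : G} (hw : w ∈ Q) (e : Sc z Q r w (-1)) :
    w ∈ Q ⊓ 𝒞(Q ⊓ 𝒞[r]) :=
  ⟨hw, fun p hp => (bt_zero h.f0 hp.1 hw).1 (orth h.f0 h.rz hp.1 hw (fixr hp) e)⟩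

theorem hpW (h : Bs z r a1 b1 a2 b2 Q) : HP z Q (Q ⊓ 𝒞[a2]) a1 b1 := by
  have f := h.f0
  refine ⟨f, inf_le_left, ⟨h.a1Q, mem_cent1.2 ((bt_zero f h.a2Q h.a1Q).1 (h.o1 h.a2Q h.ra2)).symm⟩,
    ⟨h.b1Q, mem_cent1.2 ((bt_zero f h.a2Q h.b1Q).1 (h.o2 h.a2Q h.ra2)).symm⟩, h.ba1,
    fun u hu w hw => ?_⟩
  rw [h.ex4 hu.1 hw.1, (bt_zero f hu.1 h.a2Q).2 (mem_cent1.1 hu.2),
    (bt_zero f hw.1 h.a2Q).2 (mem_cent1.1 hw.2)]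
  ring

theorem hp1 (h : Bs z r a1 b1 a2 b2 Q) : HP z Q (Q ⊓ 𝒞(Q ⊓ 𝒞[r])) a1 b1 :=
  ⟨h.f0, inf_le_left, h.mem1 h.a1Q (sc_of_inv h.f0 h.a1Q h.ra1),
    h.mem1 h.b1Q (sc_of_inv h.f0 h.b1Q h.rb1), h.ba1, fun u hu w hw =>
      h.hpW.ex u ⟨hu.1, cent_le_cent1 h.a2m hu.2⟩ w ⟨hw.1, cent_le_cent1 h.a2m hw.2⟩⟩

theorem hp2 (h : Bs z r a1 b1 a2 b2 Q) : HP z Q (Q ⊓ 𝒞[r]) a2 b2 := by
  refine ⟨h.f0, inf_le_left, h.a2m, h.b2m, h.ba2, fun u hu w hw => ?_⟩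
  rw [h.ex4 hu.1 hw.1, h.o1 hu.1 (fixr hu), h.o1 hw.1 (fixr hw)]
  ring

theorem ex1 (h : Bs z r a1 b1 a2 b2 Q) {u w : G} (hu : u ∈ Q) (hw : w ∈ Q ⊓ 𝒞(Q ⊓ 𝒞[r])) :
    bt z u w = (vec z a1 b1 w).1 * bt z u a1 + (vec z a1 b1 w).2 * bt z u b1 := by
  rw [h.ex4 hu hw.1, (bt_zero h.f0 h.b2Q hw.1).2 (hw.2 _ h.b2m),
    (bt_zero h.f0 hw.1 h.a2Q).2 (hw.2 _ h.a2m).symm]
  simp [vec]

theorem ex2 (h : Bs z r a1 b1 a2 b2 Q) {u w : G} (hu : u ∈ Q) (hw : w ∈ Q ⊓ 𝒞[r]) :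
    bt z u w = (vec z a2 b2 w).1 * bt z u a2 + (vec z a2 b2 w).2 * bt z u b2 := by
  rw [h.ex4 hu hw.1, h.o1 hw.1 (fixr hw), bt_swap h.f0 h.b1Q hw.1, h.o2 hw.1 (fixr hw)]
  simp [vec]

omit [Finite G] in
theorem L2 (h : Bs z r a1 b1 a2 b2 Q) : 𝒞[z] ⊓ 𝒞[r] ≤ 𝒞[z] ⊓ 𝒩(Q ⊓ 𝒞[r]) :=
  le_inf inf_le_left (norm_inf (inf_le_left.trans (cQ h.f0)) (norm_of_le inf_le_right))

omit [Finite G] in
theorem L1 (h : Bs z r a1 b1 a2 b2 Q) : 𝒞[z] ⊓ 𝒞[r] ≤ 𝒞[z] ⊓ 𝒩(Q ⊓ 𝒞(Q ⊓ 𝒞[r])) :=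
  le_inf inf_le_left (norm_inf (inf_le_left.trans (cQ h.f0)) (norm_cent (h.L2.trans inf_le_right)))

theorem ph1 (h : Bs z r a1 b1 a2 b2 Q) : PH (𝒞[z] ⊓ 𝒞[r]) (mat z a1 b1) := h.hp1.ph.mono h.L1

theorem ph2 (h : Bs z r a1 b1 a2 b2 Q) : PH (𝒞[z] ⊓ 𝒞[r]) (mat z a2 b2) := h.hp2.ph.mono h.L2

theorem sc1 (h : Bs z r a1 b1 a2 b2 Q) {l w : G} (hl : l ∈ 𝒞[z] ⊓ 𝒞[r])
    (hw : w ∈ Q ⊓ 𝒞(Q ⊓ 𝒞[r])) {e : ZMod 3}
    (h1 : (mat z a1 b1 l).ap (vec z a1 b1 w) = e • vec z a1 b1 w) : Sc z Q l w e := fun u hu => by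
  rw [h.ex1 hu (conj_mem_of_norm le_rfl (h.L1 hl).2 hw), h.ex1 hu hw, h.hp1.vec_conj (h.L1 hl) hw, h1]
  simp only [Prod.smul_fst, Prod.smul_snd, smul_eq_mul]
  ring

theorem sc2 (h : Bs z r a1 b1 a2 b2 Q) {l w : G} (hl : l ∈ 𝒞[z] ⊓ 𝒞[r])
    (hw : w ∈ Q ⊓ 𝒞[r]) {e : ZMod 3}
    (h1 : (mat z a2 b2 l).ap (vec z a2 b2 w) = e • vec z a2 b2 w) : Sc z Q l w e := fun u hu => by
  rw [h.ex2 hu (conj_mem_of_norm le_rfl (h.L2 hl).2 hw), h.ex2 hu hw, h.hp2.vec_conj (h.L2 hl) hw, h1]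
  simp only [Prod.smul_fst, Prod.smul_snd, smul_eq_mul]
  ring

theorem sc1' (h : Bs z r a1 b1 a2 b2 Q) {l w : G} (hl : l ∈ 𝒞[z] ⊓ 𝒞[r])
    (h1 : mat z a1 b1 l = 1) (hw : w ∈ Q ⊓ 𝒞(Q ⊓ 𝒞[r])) : Sc z Q l w 1 :=
  h.sc1 hl hw (by rw [h1, S2.ap_one, one_smul])

theorem sc2' (h : Bs z r a1 b1 a2 b2 Q) {l w : G} (hl : l ∈ 𝒞[z] ⊓ 𝒞[r])
    (h1 : mat z a2 b2 l = 1) (hw : w ∈ Q ⊓ 𝒞[r]) : Sc z Q l w 1 :=
  h.sc2 hl hw (by rw [h1, S2.ap_one, one_smul])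

theorem ker (h : Bs z r a1 b1 a2 b2 Q) {l : G} (hl : l ∈ 𝒞[z] ⊓ 𝒞[r]) (h1 : mat z a1 b1 l = 1)
    (h2 : mat z a2 b2 l = 1) : l ∈ Q :=
  mem_Q_of_sc h.f0 hl.1 (fun _ hq => h.sc_all hl.1 (h.sc1' hl h1 h.hp1.aW) (h.sc1' hl h1 h.hp1.bW)
    (h.sc2' hl h2 h.a2m) (h.sc2' hl h2 h.b2m) hq)

omit [Finite G] in
theorem rL (h : Bs z r a1 b1 a2 b2 Q) : r ∈ 𝒞[z] ⊓ 𝒞[r] := ⟨h.rz, self_mem_cent1 r⟩

theorem m1r (h : Bs z r a1 b1 a2 b2 Q) : mat z a1 b1 r = S2.nI :=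
  h.hp1.mat_neg (by rw [h.ra1]; simp) (by rw [h.rb1]; simp)

theorem m2r (h : Bs z r a1 b1 a2 b2 Q) : mat z a2 b2 r = 1 :=
  h.hp2.mat_one (by rw [h.ra2]; simp) (by rw [h.rb2]; simp)

end Bs

variable [Finite G] {z r a1 b1 a2 b2 : G} {Q : Subgroup G}

theorem xb_gen {W : Subgroup G} {a b ρ x : G} (h : HP z Q W a b)
    (hW : ∀ w ∈ W, ∀ w' ∈ W, vec z a b w = vec z a b w' → w * w'⁻¹ ∈ zpowers z)
    (hρ : ρ ∈ 𝒞[z]) (ρa : ρ * a * ρ⁻¹ = a⁻¹) (ρb : ρ * b * ρ⁻¹ = b⁻¹) (hx : x ∈ 𝒞[z] ⊓ 𝒩(W))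
    (xρ : x ∈ 𝒞[ρ]) (xa : x ∈ 𝒞[a]) (h1 : mat z a b x ≠ 1) :
    b * x * b⁻¹ = x * a⁻¹ * z ∨ b * x * b⁻¹ = x * a * z⁻¹ := by
  have f := h.f0
  have e0 : (mat z a b x).ap (1, 0) = (1, 0) := by
    rw [← h.vec_a, ← h.vec_conj hx h.aW, mem_cent1.1 xa, mul_inv_cancel_right]
  have hw := conj_mem_of_norm le_rfl (inv_mem hx.2) h.bW
  have hv : vec z a b (x⁻¹ * b * x⁻¹⁻¹ * b⁻¹) = (mat z a b x)⁻¹.ap (0, 1) + -(0, 1) := by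
    rw [vec_mul f h.aQ h.bQ (h.WQ hw) (inv_mem h.bQ), vec_inv f h.aQ h.bQ h.bQ,
      h.vec_conj (inv_mem hx) h.bW, h.ph.inv hx, h.vec_b]
  have key : ∀ a' ∈ Q, ρ * a' * ρ⁻¹ = a'⁻¹ → ∀ d ∈ zpowers z, b * a'⁻¹ * b⁻¹ = a'⁻¹ * d →
      x⁻¹ * b * x⁻¹⁻¹ * b⁻¹ * a'⁻¹ ∈ zpowers z → b * x * b⁻¹ = x * a' * d := by
    intro a' ha' e1 d hd e2 hc
    generalize hcd : x⁻¹ * b * x⁻¹⁻¹ * b⁻¹ * a'⁻¹ = c at hc
    have e3 : b * x * b⁻¹ = x * (c * a') := by rw [← hcd]; group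
    have e4 : b⁻¹ * x * b = x * (c * a'⁻¹) := by
      have := congrArg (fun y => ρ * y * ρ⁻¹) e3
      rw [show ρ * (b * x * b⁻¹) * ρ⁻¹ = (ρ * b * ρ⁻¹) * (ρ * x * ρ⁻¹) * (ρ * b * ρ⁻¹)⁻¹ by group,
        show ρ * (x * (c * a')) * ρ⁻¹ = (ρ * x * ρ⁻¹) * ((ρ * c * ρ⁻¹) * (ρ * a' * ρ⁻¹)) by group,
        ρb, e1, Z_conj hρ hc, ← mem_cent1.1 xρ, mul_inv_cancel_right, inv_inv] at this
      exact this
    have e5 : c * c * d = 1 := by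
      have : x = x * (c * c * d) := by
        calc x = b * (b⁻¹ * x * b) * b⁻¹ := by group
          _ = (b * x * b⁻¹) * (b * c * b⁻¹) * (b * a'⁻¹ * b⁻¹) := by rw [e4]; group
          _ = x * (c * (a' * c * a'⁻¹) * d) := by rw [e3, e2, Z_conj (f.Qc h.bQ) hc]; group
          _ = _ := by rw [Z_conj (f.Qc ha') hc]
      exact (left_eq_mul.1 this)
    have e6 : c = d := by
      have := f.exp c (ZQ f hc)
      rw [pow_succ, pow_two, ← e5] at this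
      exact mul_left_cancel this
    rw [e3, e6, Z_comm (f.Qc ha') hd, mul_assoc]
  have hba := conj_eq_of_bt f h.aQ h.bQ h.ba
  rcases S2.unip _ h1 e0 with e | e
  · left
    refine key a⁻¹ (inv_mem h.aQ) (by rw [← conj_inv (b := ρ), ρa]) z (mem_zpowers z)
      (by rw [inv_inv, hba]) (hW _ (mul_mem hw (inv_mem h.bW)) _ (inv_mem h.aW) ?_)
    rw [hv, e, vec_inv f h.aQ h.bQ h.aQ, h.vec_a]; decide
  · right
    refine key a h.aQ ρa z⁻¹ (inv_mem (mem_zpowers z)) (by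
      rw [← conj_inv (b := b), hba, mul_inv_rev, Z_comm (f.Qc (inv_mem h.aQ))
        (inv_mem (mem_zpowers z))]) (hW _ (mul_mem hw (inv_mem h.bW)) _ h.aW ?_)
    rw [hv, e, h.vec_a]; decide

omit [Finite G] in
theorem sc_inv {g w : G} (h : G0 z Q) (hg : g ∈ 𝒞[z]) (hw : w ∈ Q) (h1 : Sc z Q g w 1) :
    Sc z Q g⁻¹ w 1 := by
  have := (sc_of_fix (z := z) (Q := Q) (g := 1) (w := w) (by simp))
  intro u hu
  rw [bt_conj' h (inv_mem hg) hu hw, inv_inv, ← one_mul (bt z _ w), ← h1 _ (conjQ h hg hu),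
    bt_conj h hg hu hw, one_mul]

omit [Finite G] in
theorem sc_cube {g q : G} (h : G0 z Q) (hg : g ∈ 𝒞[z]) (hq : q ∈ Q)
    (h1 : Sc z Q g (g * q * g⁻¹ * q⁻¹) 1) : Sc z Q (g ^ 3) q 1 := fun u hu => by
  have hy := mul_mem (conjQ h hg hq) (inv_mem hq)
  have hgg := mul_mem hg hg
  have h2 := sc_mul h hg hg hy h1 h1 u hu
  have e1 : g ^ 3 * q * (g ^ 3)⁻¹ = (g * g * (g * q * g⁻¹ * q⁻¹) * (g * g)⁻¹) *
      ((g * (g * q * g⁻¹ * q⁻¹) * g⁻¹) * ((g * q * g⁻¹ * q⁻¹) * q)) := by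
    rw [pow_succ, pow_two]; group
  rw [e1, bt_mul_right h hu (conjQ h hgg hy) (mul_mem (conjQ h hg hy) (mul_mem hy hq)),
    bt_mul_right h hu (conjQ h hg hy) (mul_mem hy hq), bt_mul_right h hu hy hq, h2, h1 u hu]
  generalize bt z u (g * q * g⁻¹ * q⁻¹) = i
  generalize bt z u q = j
  revert i j; decide

omit [Finite G] in
theorem bt_dis {g q w : G} (h : G0 z Q) (hg : g ∈ 𝒞[z]) (hq : q ∈ Q) (hw : w ∈ Q)
    (h1 : Sc z Q g w 1) : bt z (g * q * g⁻¹ * q⁻¹) w = 0 := by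
  have h2 := h1 _ (conjQ h hg hq)
  rw [bt_conj h hg hq hw, one_mul] at h2
  rw [bt_mul_left h (conjQ h hg hq) (inv_mem hq) hw, bt_inv_left h hq hw, h2, add_neg_cancel]

/-- the stabiliser of the class of `w` -/
def stb (h : G0 z Q) {w : G} (hw : w ∈ Q) : Subgroup G where
  carrier := {g | g ∈ 𝒞[z] ∧ Sc z Q g w 1}
  mul_mem' := fun {a b} ha hb => ⟨mul_mem ha.1 hb.1, by simpa using sc_mul h ha.1 hb.1 hw ha.2 hb.2⟩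
  one_mem' := ⟨one_mem _, sc_of_fix (by simp)⟩
  inv_mem' := fun {a} ha => ⟨inv_mem ha.1, sc_inv h ha.1 hw ha.2⟩

namespace Bs

theorem div1 (h : Bs z r a1 b1 a2 b2 Q) : ∀ w ∈ Q ⊓ 𝒞(Q ⊓ 𝒞[r]), ∀ w' ∈ Q ⊓ 𝒞(Q ⊓ 𝒞[r]),
    vec z a1 b1 w = vec z a1 b1 w' → w * w'⁻¹ ∈ zpowers z := fun _ hw _ hw' e =>
  div_mem_Z h.f0 hw.1 hw'.1 (fun _ hu => by rw [h.ex1 hu hw, h.ex1 hu hw', e])

theorem div2 (h : Bs z r a1 b1 a2 b2 Q) : ∀ w ∈ Q ⊓ 𝒞[r], ∀ w' ∈ Q ⊓ 𝒞[r],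
    vec z a2 b2 w = vec z a2 b2 w' → w * w'⁻¹ ∈ zpowers z := fun _ hw _ hw' e =>
  div_mem_Z h.f0 hw.1 hw'.1 (fun _ hu => by rw [h.ex2 hu hw, h.ex2 hu hw', e])

theorem Q1_le (h : Bs z r a1 b1 a2 b2 Q) {K : Subgroup G} (hz : z ∈ K) (ha : a1 ∈ K)
    (hb : b1 ∈ K) : Q ⊓ 𝒞(Q ⊓ 𝒞[r]) ≤ K := fun w hw => by
  have := h.div1 w hw _ (mul_mem (zp_mem h.hp1.aW _) (zp_mem h.hp1.bW _)) (h.hp1.vec_zp _ _).symm
  exact (mul_mem_cancel_right (inv_mem (mul_mem (zp_mem ha _) (zp_mem hb _)))).1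
    (zpowers_le.2 hz this)

theorem Q2_le (h : Bs z r a1 b1 a2 b2 Q) {K : Subgroup G} (hz : z ∈ K) (ha : a2 ∈ K)
    (hb : b2 ∈ K) : Q ⊓ 𝒞[r] ≤ K := fun w hw => by
  have := h.div2 w hw _ (mul_mem (zp_mem h.hp2.aW _) (zp_mem h.hp2.bW _)) (h.hp2.vec_zp _ _).symm
  exact (mul_mem_cancel_right (inv_mem (mul_mem (zp_mem ha _) (zp_mem hb _)))).1
    (zpowers_le.2 hz this)

theorem mem_za2 (h : Bs z r a1 b1 a2 b2 Q) {K : Subgroup G} (hz : z ∈ K) (ha : a2 ∈ K) {w : G}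
    (hw : w ∈ Q ⊓ 𝒞[r]) (e : (vec z a2 b2 w).2 = 0) : w ∈ K := by
  have := h.div2 w hw _ (mul_mem (zp_mem h.hp2.aW _) (zp_mem h.hp2.bW _)) (h.hp2.vec_zp _ _).symm
  rw [show bt z w a2 = 0 from e, zp_zero, mul_one] at this
  exact (mul_mem_cancel_right (inv_mem (zp_mem ha _))).1 (zpowers_le.2 hz this)

theorem cent1 (h : Bs z r a1 b1 a2 b2 Q) {l : G} (hl : l ∈ 𝒞[z] ⊓ 𝒞[r])
    (e : mat z a1 b1 l = 1) : l ∈ 𝒞(Q ⊓ 𝒞(Q ⊓ 𝒞[r])) := by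
  have k : ∀ w ∈ Q ⊓ 𝒞(Q ⊓ 𝒞[r]), r * w * r⁻¹ = w⁻¹ → w ∈ 𝒞[l] := fun w hw e1 =>
    mem_cent1.2 (mul_inv_eq_iff_eq_mul.1 (fix_of_inv h.f0 h.rz (mem_cent1.1 hl.2) hw.1 e1
      ((sc_one h.f0 hl.1 hw.1).1 (h.sc1' hl e hw)))).symm
  exact le_cent1_iff.1 (h.Q1_le (mem_cent1_comm.1 hl.1) (k _ h.hp1.aW h.ra1) (k _ h.hp1.bW h.rb1))

theorem corr2 (h : Bs z r a1 b1 a2 b2 Q) {l : G} (hl : l ∈ 𝒞[z] ⊓ 𝒞[r])
    (e : mat z a2 b2 l = 1) : ∃ q ∈ Q ⊓ 𝒞[r], q * l ∈ 𝒞(Q ⊓ 𝒞[r]) := by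
  have f := h.f0
  have c1 := (sc_one f hl.1 h.a2Q).1 (h.sc2' hl e h.a2m)
  have c2 := (sc_one f hl.1 h.b2Q).1 (h.sc2' hl e h.b2m)
  have hq : zp a2 (lg z (l * b2 * l⁻¹ * b2⁻¹)) * zp b2 (-lg z (l * a2 * l⁻¹ * a2⁻¹)) ∈ Q ⊓ 𝒞[r] :=
    mul_mem (zp_mem h.a2m _) (zp_mem h.b2m _)
  have hv := h.hp2.vec_zp (lg z (l * b2 * l⁻¹ * b2⁻¹)) (-lg z (l * a2 * l⁻¹ * a2⁻¹))
  generalize zp a2 (lg z (l * b2 * l⁻¹ * b2⁻¹)) * zp b2 (-lg z (l * a2 * l⁻¹ * a2⁻¹)) = q at hq hv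
  have k : ∀ w ∈ Q, l * w * l⁻¹ * w⁻¹ ∈ zpowers z → bt z q w = -lg z (l * w * l⁻¹ * w⁻¹) →
      w ∈ 𝒞[q * l] := fun w hw e1 e2 => by
    have e3 : zp z (lg z (l * w * l⁻¹ * w⁻¹)) * zp z (bt z q w) = 1 := by
      rw [← zp_add (z3' f), e2, add_neg_cancel, zp_zero]
    rw [zp_lg f.z3 e1, bt_spec f hq.1 hw, ← Z_conj (f.Qc hq.1) e1] at e3
    rw [mem_cent1, ← one_mul (w * _), ← e3]
    group
  exact ⟨q, hq, le_cent1_iff.1 (h.Q2_le (mem_cent1_comm.1 (mul_mem (f.Qc hq.1) hl.1))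
    (k _ h.a2Q c1 (congrArg Prod.snd hv)) (k _ h.b2Q c2 (by
      rw [bt_swap f hq.1 h.b2Q]; exact congrArg Neg.neg (congrArg Prod.fst hv))))⟩

theorem sc_of (h : Bs z r a1 b1 a2 b2 Q) {g y : G} (hg : g ∈ 𝒞[z]) (hy : y ∈ Q)
    (h1 : bt z b1 y = 0 ∨ Sc z Q g a1 1) (h2 : Sc z Q g a2 1) (e1 : bt z y a1 = 0)
    (e2 : bt z y a2 = 0) : Sc z Q g y 1 := fun u hu => by
  have f := h.f0
  rw [bt_conj' f hg hu hy, h.ex4 (conjQ f (inv_mem hg) hu) hy, ← bt_conj' f hg hu h.a1Q,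
    ← bt_conj' f hg hu h.a2Q, h2 u hu, h.ex4 hu hy, e1, e2]
  rcases h1 with h1 | h1
  · rw [h1]; ring
  · rw [h1 u hu]; ring

theorem cube_mem (h : Bs z r a1 b1 a2 b2 Q) {g : G} (hg : g ∈ stb h.f0 h.a1Q ⊓ stb h.f0 h.a2Q) :
    g ^ 3 ∈ Q := by
  have f := h.f0
  exact mem_Q_of_sc f (pow_mem hg.1.1 3) (fun q hq => sc_cube f hg.1.1 hq (h.sc_of hg.1.1
    (mul_mem (conjQ f hg.1.1 hq) (inv_mem hq)) (Or.inr hg.1.2) hg.2.2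
    (bt_dis f hg.1.1 hq h.a1Q hg.1.2) (bt_dis f hg.1.1 hq h.a2Q hg.2.2)))

end Bs

end Cfsg.Agent.U6.Fa
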